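import Mathlib
import Groth.Prelude.Def_Exal
import Groth.Prelude.Def_Exal2
import Groth.Prelude.Def_Exal3
import Groth.Prelude.Def_EGA41
import Groth.Agent.Lib.Helper3.ExalAux

set_option autoImplicit false
universe u v

namespace Groth.Agent.H3.CharHom
open Exal TensorProduct KaehlerDifferential Groth.Agent.H3.ExalAux

section Basic

variable (A : Type u) {B C L : Type v} [CommRing A] [CommRing B] [CommRing C] [Algebra A B]
  [Algebra B C] [AddCommGroup L] [Module C L] (X : Ext B C L)

/-- The projection as the algebra map of the CharCarrier. -/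
lemma algebraMap_carrier (e : X.CharCarrier A) : algebraMap (X.CharCarrier A) C e = X.proj e := rfl

lemma surj : Function.Surjective (algebraMap (X.CharCarrier A) C) := X.isExtension.proj_surjective

lemma algebraMap_inclC (z : L) : algebraMap (X.CharCarrier A) C (X.inclC A z) = 0 :=
  proj_incl X z

lemma mul_inclC (e : X.CharCarrier A) (z : L) :
    e * X.inclC A z = X.inclC A (algebraMap (X.CharCarrier A) C e • z) :=
  X.isExtension.mul_incl e z

lemma inclC_injective : Function.Injective (X.inclC A) := X.isExtension.incl_injective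

lemma exists_inclC_of_algebraMap_eq_zero (e : X.CharCarrier A)
    (he : algebraMap (X.CharCarrier A) C e = 0) : ∃ z : L, X.inclC A z = e :=
  (X.isExtension.exact e).1 he

end Basic

variable (A : Type u) {B C L : Type v} [CommRing A] [CommRing B] [CommRing C] [Algebra A B]
  [Algebra B C] [Algebra A C] [IsScalarTower A B C] [AddCommGroup L] [Module C L]
  (X : Ext B C L)

/-- `deltaL` is `C`-linear. -/
noncomputable def deltaLₗ : L →ₗ[C] C ⊗[X.CharCarrier A] Ω[X.CharCarrier A⁄A] where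
  toFun := X.deltaL A
  map_add' := map_add _
  map_smul' c z := by
    obtain ⟨e, rfl⟩ := surj A X c
    change (1 : C) ⊗ₜ[X.CharCarrier A] D A (X.CharCarrier A)
        (X.inclC A (algebraMap (X.CharCarrier A) C e • z)) =
      algebraMap (X.CharCarrier A) C e • ((1 : C) ⊗ₜ[X.CharCarrier A] D A (X.CharCarrier A) (X.inclC A z))
    rw [← mul_inclC, Derivation.leibniz, TensorProduct.tmul_add, TensorProduct.tmul_smul,
      TensorProduct.tmul_smul,
      TensorProduct.smul_tmul', TensorProduct.smul_tmul', Algebra.smul_def, Algebra.smul_def,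
      algebraMap_inclC, zero_mul, TensorProduct.zero_tmul,
      add_zero, TensorProduct.smul_tmul', smul_eq_mul]

lemma deltaLₗ_apply (z : L) :
    deltaLₗ A X z = (1 : C) ⊗ₜ[X.CharCarrier A] D A (X.CharCarrier A) (X.inclC A z) :=
  rfl

/-- `baseChangeToMiddle` is `C`-linear. -/
noncomputable def bcmₗ : C ⊗[B] Ω[B⁄A] →ₗ[C] C ⊗[X.CharCarrier A] Ω[X.CharCarrier A⁄A] where
  toFun := X.baseChangeToMiddle A
  map_add' := map_add _
  map_smul' c z := by
    induction z using TensorProduct.induction_on with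
    | zero => simp
    | tmul c' ω =>
      rw [TensorProduct.smul_tmul', RingHom.id_apply]
      change c • c' ⊗ₜ[X.CharCarrier A] KaehlerDifferential.map A A B (X.CharCarrier A) ω =
        c • (c' ⊗ₜ[X.CharCarrier A] KaehlerDifferential.map A A B (X.CharCarrier A) ω)
      rw [TensorProduct.smul_tmul']
    | add x y hx hy => rw [smul_add, map_add, hx, hy, map_add, smul_add]

lemma bcmₗ_tmul (c : C) (ω : Ω[B⁄A]) :
    bcmₗ A X (c ⊗ₜ ω) = c ⊗ₜ[X.CharCarrier A] KaehlerDifferential.map A A B (X.CharCarrier A) ω :=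
  rfl

lemma bcmₗ_apply (z : C ⊗[B] Ω[B⁄A]) : bcmₗ A X z = X.baseChangeToMiddle A z := rfl

lemma bcmₗ_tmul_D (c : C) (b : B) :
    bcmₗ A X (c ⊗ₜ D A B b) =
      c ⊗ₜ[X.CharCarrier A] D A (X.CharCarrier A) (algebraMap B (X.CharCarrier A) b) := by
  rw [bcmₗ_tmul, KaehlerDifferential.map_D]

lemma map_map (ω : Ω[B⁄A]) :
    KaehlerDifferential.map A A (X.CharCarrier A) C
      (KaehlerDifferential.map A A B (X.CharCarrier A) ω) = KaehlerDifferential.map A A B C ω := by
  have hω : ω ∈ Submodule.span B (Set.range (D A B)) := by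
    rw [KaehlerDifferential.span_range_derivation]; trivial
  induction hω using Submodule.span_induction with
  | mem x hx =>
    obtain ⟨b, rfl⟩ := hx
    rw [KaehlerDifferential.map_D, KaehlerDifferential.map_D, KaehlerDifferential.map_D,
      ← IsScalarTower.algebraMap_apply]
  | zero => simp
  | add x y _ _ hx hy => rw [map_add, map_add, map_add, hx, hy]
  | smul b x _ hx =>
    rw [map_smul (KaehlerDifferential.map A A B (X.CharCarrier A)),
      map_smul (KaehlerDifferential.map A A B C),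
      ← IsScalarTower.algebraMap_smul (X.CharCarrier A) b, map_smul, hx,
      IsScalarTower.algebraMap_smul]

/-- Compatibility with the maps to `Ω[C⁄A]`. -/
lemma mapBaseChange_bcmₗ (z : C ⊗[B] Ω[B⁄A]) :
    KaehlerDifferential.mapBaseChange A (X.CharCarrier A) C (bcmₗ A X z) =
      KaehlerDifferential.mapBaseChange A B C z := by
  induction z using TensorProduct.induction_on with
  | zero => simp
  | tmul c ω =>
    rw [bcmₗ_tmul, KaehlerDifferential.mapBaseChange_tmul, KaehlerDifferential.mapBaseChange_tmul]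
    rw [map_map]
  | add x y hx hy => rw [map_add, map_add, hx, hy, map_add]

/-- Elements of the kernel of `C ⊗_E Ω_{E/A} → Ω_{C/A}` come from `L`. -/
lemma exists_deltaL_eq (w : C ⊗[X.CharCarrier A] Ω[X.CharCarrier A⁄A])
    (hw : KaehlerDifferential.mapBaseChange A (X.CharCarrier A) C w = 0) :
    ∃ z : L, deltaLₗ A X z = w := by
  have h := KaehlerDifferential.exact_kerCotangentToTensor_mapBaseChange A (X.CharCarrier A) C
    (surj A X)
  obtain ⟨y, rfl⟩ := (h w).1 hw
  obtain ⟨⟨e, he⟩, rfl⟩ := Ideal.toCotangent_surjective _ y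
  obtain ⟨z, rfl⟩ := exists_inclC_of_algebraMap_eq_zero A X e he
  exact ⟨z, rfl⟩

lemma mapBaseChange_deltaL (z : L) :
    KaehlerDifferential.mapBaseChange A (X.CharCarrier A) C (deltaLₗ A X z) = 0 := by
  rw [deltaLₗ_apply, KaehlerDifferential.mapBaseChange_tmul, KaehlerDifferential.map_D,
    algebraMap_inclC, map_zero, smul_zero]

lemma ker_sq_carrier : (RingHom.ker (algebraMap (X.CharCarrier A) C)) ^ 2 = ⊥ := by
  rw [eq_bot_iff, pow_two, Ideal.mul_le]
  intro x hx y hy
  rw [RingHom.mem_ker] at hx hy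
  obtain ⟨z, rfl⟩ := exists_inclC_of_algebraMap_eq_zero A X x hx
  obtain ⟨z', rfl⟩ := exists_inclC_of_algebraMap_eq_zero A X y hy
  rw [mul_inclC, algebraMap_inclC, zero_smul, map_zero]
  exact Ideal.zero_mem _

/-- An `A`-algebra section of the projection, on the CharCarrier. -/
structure Sec where
  s : C →ₐ[A] X.CharCarrier A
  hs : ∀ c, algebraMap (X.CharCarrier A) C (s c) = c

lemma nonempty_sec (hX : X.IsTrivialOver A) : Nonempty (Sec A X) := by
  obtain ⟨s, hs⟩ := hX
  exact ⟨⟨{ toRingHom := s.toRingHom, commutes' := s.commutes }, hs⟩⟩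

lemma isTrivialOver_of_sec (σ : Sec A X) : X.IsTrivialOver A :=
  ⟨{ toRingHom := σ.s.toRingHom, commutes' := σ.s.commutes }, σ.hs⟩

variable {A X}

lemma Sec.comp_eq (σ : Sec A X) :
    (IsScalarTower.toAlgHom A (X.CharCarrier A) C).comp σ.s = AlgHom.id A C :=
  AlgHom.ext σ.hs

/-- The Mathlib retraction attached to a section. -/
noncomputable def Sec.retr (σ : Sec A X) :
    C ⊗[X.CharCarrier A] Ω[X.CharCarrier A⁄A] →ₗ[X.CharCarrier A]
      RingHom.ker (algebraMap (X.CharCarrier A) C) :=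
  retractionOfSectionOfKerSqZero σ.s (ker_sq_carrier A X) σ.comp_eq

/-- `kerLift` on the CharCarrier. -/
noncomputable def kl (e : RingHom.ker (algebraMap (X.CharCarrier A) C)) : L :=
  X.kerLift e.1 (RingHom.mem_ker.mp e.2)

lemma inclC_kl (e : RingHom.ker (algebraMap (X.CharCarrier A) C)) :
    X.inclC A (kl e) = e.1 := X.incl_kerLift e.1 (RingHom.mem_ker.mp e.2)

/-- The retraction `ρ : C ⊗_E Ω_{E/A} → L` of `deltaL` attached to a section. -/
noncomputable def Sec.rho (σ : Sec A X) : C ⊗[X.CharCarrier A] Ω[X.CharCarrier A⁄A] →ₗ[C] L where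
  toFun w := kl (σ.retr w)
  map_add' w w' := by
    apply inclC_injective A X
    rw [map_add, inclC_kl, map_add, inclC_kl, inclC_kl]
    rfl
  map_smul' c w := by
    obtain ⟨e, rfl⟩ := surj A X c
    apply inclC_injective A X
    rw [RingHom.id_apply, inclC_kl, ← mul_inclC, inclC_kl, algebraMap_smul, map_smul]
    rfl

lemma Sec.incl_rho (σ : Sec A X) (w : C ⊗[X.CharCarrier A] Ω[X.CharCarrier A⁄A]) :
    X.inclC A (σ.rho w) = (σ.retr w).1 :=
  inclC_kl _

lemma Sec.incl_rho_tmul_D (σ : Sec A X) (c : C) (e : X.CharCarrier A) :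
    X.inclC A (σ.rho (c ⊗ₜ D A (X.CharCarrier A) e)) =
      σ.s c * (e - σ.s (algebraMap (X.CharCarrier A) C e)) := by
  rw [σ.incl_rho, Sec.retr, retractionOfSectionOfKerSqZero_tmul_D, mul_sub]

lemma Sec.rho_deltaL (σ : Sec A X) (z : L) : σ.rho (deltaLₗ A X z) = z := by
  apply inclC_injective A X
  rw [deltaLₗ_apply, σ.incl_rho_tmul_D, algebraMap_inclC, map_zero, sub_zero, map_one, one_mul]

lemma deltaL_injective (hX : X.IsTrivialOver A) : Function.Injective (deltaLₗ A X) := by
  obtain ⟨σ⟩ := nonempty_sec A X hX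
  exact Function.LeftInverse.injective σ.rho_deltaL

/-- The linear map `T_σ = ρ_σ ∘ bcm : C ⊗_B Ω_{B/A} → L` attached to a section; it is the
linearisation of the derivation `b ↦ q b - σ (v b)`. -/
noncomputable def Sec.T (σ : Sec A X) : C ⊗[B] Ω[B⁄A] →ₗ[C] L := σ.rho ∘ₗ bcmₗ A X

lemma Sec.T_apply (σ : Sec A X) (z : C ⊗[B] Ω[B⁄A]) : σ.T z = σ.rho (bcmₗ A X z) := rfl

lemma Sec.inclC_T_tmul_D (σ : Sec A X) (c : C) (b : B) :
    X.inclC A (σ.T (c ⊗ₜ D A B b)) =
      σ.s c * (algebraMap B (X.CharCarrier A) b - σ.s (algebraMap B C b)) := by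
  rw [σ.T_apply, bcmₗ_tmul_D, σ.incl_rho_tmul_D, ← IsScalarTower.algebraMap_apply]

lemma Sec.deltaL_rho (σ : Sec A X) (w : C ⊗[X.CharCarrier A] Ω[X.CharCarrier A⁄A])
    (hw : KaehlerDifferential.mapBaseChange A (X.CharCarrier A) C w = 0) :
    deltaLₗ A X (σ.rho w) = w := by
  obtain ⟨z, rfl⟩ := exists_deltaL_eq A X w hw
  rw [σ.rho_deltaL]

lemma mem_imperfection_iff (z : C ⊗[B] Ω[B⁄A]) :
    z ∈ EGA41.imperfection A B C ↔ KaehlerDifferential.mapBaseChange A B C z = 0 := Iff.rfl

lemma isCharHom_iff' (χ : ↥(EGA41.imperfection A B C) →ₗ[C] L) :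
    X.IsCharHom A χ ↔ ∀ z : ↥(EGA41.imperfection A B C), deltaLₗ A X (χ z) = bcmₗ A X z.1 := Iff.rfl

lemma Sec.isCharHom_iff (σ : Sec A X) (χ : ↥(EGA41.imperfection A B C) →ₗ[C] L) :
    X.IsCharHom A χ ↔ ∀ z : ↥(EGA41.imperfection A B C), χ z = σ.T z.1 := by
  rw [isCharHom_iff']
  constructor
  · intro h z
    rw [σ.T_apply, ← h z, σ.rho_deltaL]
  · intro h z
    rw [h z, σ.T_apply, σ.deltaL_rho]
    rw [mapBaseChange_bcmₗ]
    exact z.2

/-- The characteristic homomorphism computed from a section. -/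
noncomputable def Sec.chi (σ : Sec A X) : ↥(EGA41.imperfection A B C) →ₗ[C] L :=
  σ.T ∘ₗ (EGA41.imperfection A B C).subtype

lemma Sec.isCharHom_chi (σ : Sec A X) : X.IsCharHom A σ.chi :=
  (σ.isCharHom_iff _).2 fun _ => rfl

theorem existsUnique_isCharHom (hX : X.IsTrivialOver A) :
    ∃! χ : ↥(EGA41.imperfection A B C) →ₗ[C] L, X.IsCharHom A χ := by
  obtain ⟨σ⟩ := nonempty_sec A X hX
  refine ⟨σ.chi, σ.isCharHom_chi, fun χ hχ => ?_⟩
  ext z
  rw [(σ.isCharHom_iff χ).1 hχ z]
  rfl

end Groth.Agent.H3.CharHom
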