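import Mathlib
import Groth.Agent.Lib.Helper3.Exal.CharHom

set_option autoImplicit false
universe u v

namespace Groth.Agent.H3.CharHom
open Exal TensorProduct KaehlerDifferential Groth.Agent.H3.ExalAux

section Quot

variable (A : Type u) {B : Type v} [CommRing A] [CommRing B] [Algebra A B] (K : Ideal B)

lemma mem_ker_algebraMap_quot (x : B) : x ∈ RingHom.ker (algebraMap B (B ⧸ K)) ↔ x ∈ K := by
  rw [RingHom.mem_ker, Ideal.Quotient.algebraMap_eq, Ideal.Quotient.eq_zero_iff_mem]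

lemma one_tmul_D_mem_imperfection (x : B) (hx : x ∈ K) :
    (1 : B ⧸ K) ⊗ₜ[B] D A B x ∈ EGA41.imperfection A B (B ⧸ K) := by
  rw [mem_imperfection_iff, KaehlerDifferential.mapBaseChange_tmul, one_smul,
    KaehlerDifferential.map_D, (mem_ker_algebraMap_quot K x).2 hx, map_zero]

lemma exists_eq_one_tmul_D (z : (B ⧸ K) ⊗[B] Ω[B⁄A]) (hz : z ∈ EGA41.imperfection A B (B ⧸ K)) :
    ∃ x ∈ K, z = (1 : B ⧸ K) ⊗ₜ[B] D A B x := by
  have h := KaehlerDifferential.exact_kerCotangentToTensor_mapBaseChange A B (B ⧸ K)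
    Ideal.Quotient.mk_surjective
  obtain ⟨y, rfl⟩ := (h z).1 hz
  obtain ⟨⟨x, hx⟩, rfl⟩ := Ideal.toCotangent_surjective _ y
  exact ⟨x, (mem_ker_algebraMap_quot K x).1 hx, rfl⟩

lemma one_tmul_D_eq_zero_of_mem_sq (x : B) (hx : x ∈ K ^ 2) :
    (1 : B ⧸ K) ⊗ₜ[B] D A B x = 0 := by
  have hK : RingHom.ker (algebraMap B (B ⧸ K)) = K := by
    ext x; exact mem_ker_algebraMap_quot K x
  have hx' : x ∈ (RingHom.ker (algebraMap B (B ⧸ K))) ^ 2 := by rw [hK]; exact hx
  have hx'' : x ∈ RingHom.ker (algebraMap B (B ⧸ K)) := Ideal.pow_le_self two_ne_zero hx'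
  have h0 : (RingHom.ker (algebraMap B (B ⧸ K))).toCotangent ⟨x, hx''⟩ = 0 := by
    rw [Ideal.toCotangent_eq_zero]; exact hx'
  have := KaehlerDifferential.kerCotangentToTensor_toCotangent A B (B ⧸ K) ⟨x, hx''⟩
  rw [h0, map_zero] at this
  exact this.symm

variable {A K}

/-- Value of the characteristic homomorphism of the infinitesimal extension on `1 ⊗ dx`. -/
lemma chi_one_tmul_D (hK : (Exal.Ext.infinitesimal K).IsTrivialOver A)
    (χ : ↥(EGA41.imperfection A B (B ⧸ K)) →ₗ[B ⧸ K] K.Cotangent)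
    (hχ : (Exal.Ext.infinitesimal K).IsCharHom A χ) (x : B) (hx : x ∈ K) :
    χ ⟨(1 : B ⧸ K) ⊗ₜ[B] D A B x, one_tmul_D_mem_imperfection A K x hx⟩ = K.toCotangent ⟨x, hx⟩ := by
  apply deltaL_injective hK
  rw [(isCharHom_iff' χ).1 hχ, bcmₗ_tmul_D, deltaLₗ_apply]
  rfl

theorem bijective_of_isCharHom_infinitesimal (hK : (Exal.Ext.infinitesimal K).IsTrivialOver A)
    (χ : ↥(EGA41.imperfection A B (B ⧸ K)) →ₗ[B ⧸ K] K.Cotangent)
    (hχ : (Exal.Ext.infinitesimal K).IsCharHom A χ) : Function.Bijective χ := by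
  constructor
  · rw [injective_iff_map_eq_zero]
    rintro ⟨z, hz⟩ h0
    obtain ⟨x, hx, rfl⟩ := exists_eq_one_tmul_D A K z hz
    rw [chi_one_tmul_D hK χ hχ x hx, Ideal.toCotangent_eq_zero] at h0
    exact Subtype.ext (one_tmul_D_eq_zero_of_mem_sq A K x h0)
  · intro y
    obtain ⟨⟨x, hx⟩, rfl⟩ := K.toCotangent_surjective y
    exact ⟨_, chi_one_tmul_D hK χ hχ x hx⟩

end Quot

section Tower

variable {Λ : Type u} {A B C L : Type v} [CommRing Λ] [CommRing A] [CommRing B] [CommRing C]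
  [Algebra Λ A] [Algebra Λ B] [Algebra A B] [IsScalarTower Λ A B]
  [Algebra B C] [Algebra A C] [IsScalarTower A B C] [Algebra Λ C] [IsScalarTower Λ B C]
  [IsScalarTower Λ A C] [AddCommGroup L] [Module C L]

variable (Λ A B C) in
/-- The map `C ⊗_A Ω_{A/Λ} → C ⊗_B Ω_{B/Λ}`. -/
noncomputable def img : C ⊗[A] Ω[A⁄Λ] →ₗ[C] C ⊗[B] Ω[B⁄Λ] :=
  ((KaehlerDifferential.mapBaseChange Λ A B).baseChange C) ∘ₗ
    (TensorProduct.AlgebraTensorModule.cancelBaseChange A B C C Ω[A⁄Λ]).symm.toLinearMap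

lemma img_apply (z : C ⊗[A] Ω[A⁄Λ]) :
    img Λ A B C z = ((KaehlerDifferential.mapBaseChange Λ A B).baseChange C)
      ((TensorProduct.AlgebraTensorModule.cancelBaseChange A B C C Ω[A⁄Λ]).symm z) := rfl

lemma img_tmul (c : C) (ω : Ω[A⁄Λ]) :
    img Λ A B C (c ⊗ₜ ω) = c ⊗ₜ KaehlerDifferential.map Λ Λ A B ω := by
  rw [img_apply, TensorProduct.AlgebraTensorModule.cancelBaseChange_symm_tmul,
    LinearMap.baseChange_tmul, KaehlerDifferential.mapBaseChange_tmul, one_smul]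

omit [IsScalarTower Λ A B] [Algebra Λ B] [Algebra Λ C] [IsScalarTower Λ B C] [IsScalarTower Λ A C]
  [Algebra B C] [Algebra A B] [IsScalarTower A B C] in
lemma ext_one_tmul_D {M : Type*} [AddCommGroup M] [Module C M] (f g : C ⊗[A] Ω[A⁄Λ] →ₗ[C] M)
    (h : ∀ a, f (1 ⊗ₜ D Λ A a) = g (1 ⊗ₜ D Λ A a)) : f = g := by
  have h1 : ∀ ω : Ω[A⁄Λ], f (1 ⊗ₜ ω) = g (1 ⊗ₜ ω) := by
    intro ω
    have hω : ω ∈ Submodule.span A (Set.range (D Λ A)) := by
      rw [KaehlerDifferential.span_range_derivation]; trivial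
    induction hω using Submodule.span_induction with
    | mem x hx => obtain ⟨a, rfl⟩ := hx; exact h a
    | zero => simp
    | add x y _ _ hx hy => rw [TensorProduct.tmul_add, map_add, map_add, hx, hy]
    | smul a x _ hx =>
      rw [← TensorProduct.smul_tmul, ← algebraMap_smul C a (1 : C),
        ← TensorProduct.smul_tmul', map_smul, map_smul, hx]
  ext z
  induction z using TensorProduct.induction_on with
  | zero => simp
  | tmul c ω =>
    have : c ⊗ₜ[A] ω = c • ((1 : C) ⊗ₜ[A] ω) := by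
      rw [TensorProduct.smul_tmul', smul_eq_mul, mul_one]
    rw [this, map_smul, map_smul, h1]
  | add x y hx hy => rw [map_add, map_add, hx, hy]

variable (X : Ext B C L)

/-- A section over `Λ` of the `A`-extension underlying `X` is one of `X`. -/
def Sec.up (σ : Sec Λ (X.restrictBase A)) : Sec Λ X where
  s :=
    { toRingHom := σ.s.toRingHom
      commutes' := fun r => by
        have h := σ.s.commutes r
        change σ.s (algebraMap Λ C r) = algebraMap B X.E (algebraMap Λ B r)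
        rw [h, IsScalarTower.algebraMap_apply Λ A B]
        rfl }
  hs := σ.hs

lemma Sec.up_apply (σ : Sec Λ (X.restrictBase A)) (c : C) :
    ((Sec.up X σ).s c : X.E) = (σ.s c : X.E) := rfl

lemma Sec.T_eq_up (σ : Sec Λ (X.restrictBase A)) :
    σ.T = (Sec.up X σ).T ∘ₗ img Λ A B C := by
  apply ext_one_tmul_D
  intro a
  apply X.isExtension.incl_injective
  rw [LinearMap.comp_apply, img_tmul, KaehlerDifferential.map_D]
  have h1 := σ.inclC_T_tmul_D 1 a
  have h2 := (Sec.up X σ).inclC_T_tmul_D 1 (algebraMap A B a)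
  rw [← IsScalarTower.algebraMap_apply A B C] at h2
  exact h1.trans h2.symm

end Tower

section Tower2

variable {Λ : Type u} {A B C : Type v} [CommRing Λ] [CommRing A] [CommRing B] [CommRing C]
  [Algebra Λ A] [Algebra Λ B] [Algebra A B] [IsScalarTower Λ A B]
  [Algebra B C] [Algebra A C] [IsScalarTower A B C] [Algebra Λ C] [IsScalarTower Λ B C]
  [IsScalarTower Λ A C]

lemma map_map' (ω : Ω[A⁄Λ]) :
    KaehlerDifferential.map Λ Λ B C (KaehlerDifferential.map Λ Λ A B ω) =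
      KaehlerDifferential.map Λ Λ A C ω := by
  have hω : ω ∈ Submodule.span A (Set.range (D Λ A)) := by
    rw [KaehlerDifferential.span_range_derivation]; trivial
  induction hω using Submodule.span_induction with
  | mem x hx =>
    obtain ⟨b, rfl⟩ := hx
    rw [KaehlerDifferential.map_D, KaehlerDifferential.map_D, KaehlerDifferential.map_D,
      ← IsScalarTower.algebraMap_apply]
  | zero => simp
  | add x y _ _ hx hy => rw [map_add, map_add, map_add, hx, hy]
  | smul b x _ hx =>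
    rw [map_smul (KaehlerDifferential.map Λ Λ A B),
      map_smul (KaehlerDifferential.map Λ Λ A C),
      ← IsScalarTower.algebraMap_smul B b, map_smul, hx,
      IsScalarTower.algebraMap_smul]

lemma mapBaseChange_img (z : C ⊗[A] Ω[A⁄Λ]) :
    KaehlerDifferential.mapBaseChange Λ B C (img Λ A B C z) =
      KaehlerDifferential.mapBaseChange Λ A C z := by
  induction z using TensorProduct.induction_on with
  | zero => simp
  | tmul c ω =>
    rw [img_tmul, KaehlerDifferential.mapBaseChange_tmul, KaehlerDifferential.mapBaseChange_tmul,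
      map_map']
  | add x y hx hy => rw [map_add, map_add, hx, hy, map_add]

lemma img_mem_imperfection (z : C ⊗[A] Ω[A⁄Λ]) (hz : z ∈ EGA41.imperfection Λ A C) :
    img Λ A B C z ∈ EGA41.imperfection Λ B C := by
  rw [mem_imperfection_iff, mapBaseChange_img]; exact hz

variable (Λ A B C) in
/-- The map `C ⊗_B Ω_{B/Λ} → C ⊗_B Ω_{B/A}`. -/
noncomputable def pr : C ⊗[B] Ω[B⁄Λ] →ₗ[C] C ⊗[B] Ω[B⁄A] :=
  (KaehlerDifferential.map Λ A B B).baseChange C

lemma pr_tmul (c : C) (ω : Ω[B⁄Λ]) :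
    pr Λ A B C (c ⊗ₜ ω) = c ⊗ₜ KaehlerDifferential.map Λ A B B ω :=
  LinearMap.baseChange_tmul _ _ _

lemma pr_img (z : C ⊗[A] Ω[A⁄Λ]) : pr Λ A B C (img Λ A B C z) = 0 := by
  induction z using TensorProduct.induction_on with
  | zero => simp
  | tmul c ω =>
    rw [img_tmul, pr_tmul]
    have h := (KaehlerDifferential.exact_mapBaseChange_map Λ A B
      (KaehlerDifferential.mapBaseChange Λ A B (1 ⊗ₜ ω))).2 ⟨_, rfl⟩
    rw [KaehlerDifferential.mapBaseChange_tmul, one_smul] at h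
    rw [h, TensorProduct.tmul_zero]
  | add x y hx hy => rw [map_add, map_add, hx, hy, add_zero]

lemma exists_img_eq_of_pr_eq_zero (w : C ⊗[B] Ω[B⁄Λ]) (hw : pr Λ A B C w = 0) :
    ∃ z : C ⊗[A] Ω[A⁄Λ], img Λ A B C z = w := by
  have hex := lTensor_exact C (KaehlerDifferential.exact_mapBaseChange_map Λ A B)
    (KaehlerDifferential.map_surjective Λ A B)
  have hw' : (KaehlerDifferential.map Λ A B B).lTensor C w = 0 := by
    rw [← hw]; rfl
  obtain ⟨y, hy⟩ := (hex w).1 hw'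
  refine ⟨TensorProduct.AlgebraTensorModule.cancelBaseChange A B C C Ω[A⁄Λ] y, ?_⟩
  rw [img_apply, LinearEquiv.symm_apply_apply, ← hy]
  rfl

end Tower2

section Inf

variable {Λ : Type u} {A B : Type v} [CommRing Λ] [CommRing A] [CommRing B] [Algebra Λ A]
  [Algebra Λ B] [Algebra A B] [IsScalarTower Λ A B] (K : Ideal B)

/-- Key comparison: the characteristic homomorphism of `B ⧸ K ^ 2` as an `A`-extension is the one as a
`B`-extension composed with `Υ_{C/A/Λ} → Υ_{C/B/Λ}`. -/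
lemma exists_chiB (htriv : ((Exal.Ext.infinitesimal K).restrictBase A).IsTrivialOver Λ)
    (χ : ↥(EGA41.imperfection Λ A (B ⧸ K)) →ₗ[B ⧸ K] K.Cotangent)
    (hχ : ((Exal.Ext.infinitesimal K).restrictBase A).IsCharHom Λ χ) :
    ∃ χB : ↥(EGA41.imperfection Λ B (B ⧸ K)) →ₗ[B ⧸ K] K.Cotangent,
      (Exal.Ext.infinitesimal K).IsTrivialOver Λ ∧ (Exal.Ext.infinitesimal K).IsCharHom Λ χB ∧
      ∀ z : ↥(EGA41.imperfection Λ A (B ⧸ K)),
        χ z = χB ⟨img Λ A B (B ⧸ K) z.1, img_mem_imperfection z.1 z.2⟩ := by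
  obtain ⟨σ⟩ := nonempty_sec Λ _ htriv
  refine ⟨(Sec.up _ σ).chi, isTrivialOver_of_sec Λ _ (Sec.up _ σ), (Sec.up _ σ).isCharHom_chi, ?_⟩
  intro z
  rw [(σ.isCharHom_iff χ).1 hχ z, Sec.T_eq_up]
  rfl

theorem chi_eq_zero_iff (htriv : ((Exal.Ext.infinitesimal K).restrictBase A).IsTrivialOver Λ)
    (χ : ↥(EGA41.imperfection Λ A (B ⧸ K)) →ₗ[B ⧸ K] K.Cotangent)
    (hχ : ((Exal.Ext.infinitesimal K).restrictBase A).IsCharHom Λ χ)
    (z : ↥(EGA41.imperfection Λ A (B ⧸ K))) :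
    χ z = 0 ↔ img Λ A B (B ⧸ K) z.1 = 0 := by
  obtain ⟨χB, hB, hχB, h⟩ := exists_chiB K htriv χ hχ
  have hinj := (bijective_of_isCharHom_infinitesimal hB χB hχB).1
  rw [h z, ← map_zero χB, hinj.eq_iff, Subtype.ext_iff]
  rfl

theorem mem_range_chi_iff (htriv : ((Exal.Ext.infinitesimal K).restrictBase A).IsTrivialOver Λ)
    (χ : ↥(EGA41.imperfection Λ A (B ⧸ K)) →ₗ[B ⧸ K] K.Cotangent)
    (hχ : ((Exal.Ext.infinitesimal K).restrictBase A).IsCharHom Λ χ) (x : B) (hx : x ∈ K) :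
    K.toCotangent ⟨x, hx⟩ ∈ LinearMap.range χ ↔
      (1 : B ⧸ K) ⊗ₜ[B] KaehlerDifferential.D A B x = (0 : (B ⧸ K) ⊗[B] Ω[B⁄A]) := by
  obtain ⟨χB, hB, hχB, h⟩ := exists_chiB K htriv χ hχ
  have hinj := (bijective_of_isCharHom_infinitesimal hB χB hχB).1
  have hx1 := chi_one_tmul_D hB χB hχB x hx
  have hpr : pr Λ A B (B ⧸ K) ((1 : B ⧸ K) ⊗ₜ[B] D Λ B x) = (1 : B ⧸ K) ⊗ₜ[B] D A B x := by
    rw [pr_tmul, KaehlerDifferential.map_D]
    rfl
  constructor
  · rintro ⟨z, hz⟩
    rw [h z, ← hx1] at hz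
    have h2 := Subtype.ext_iff.1 (hinj hz)
    change img Λ A B (B ⧸ K) z.1 = (1 : B ⧸ K) ⊗ₜ[B] D Λ B x at h2
    rw [← hpr, ← h2, pr_img]
  · intro h0
    rw [← hpr] at h0
    obtain ⟨z, hz⟩ := exists_img_eq_of_pr_eq_zero _ h0
    have hzm : z ∈ EGA41.imperfection Λ A (B ⧸ K) := by
      rw [mem_imperfection_iff, ← mapBaseChange_img (B := B), hz]
      exact one_tmul_D_mem_imperfection Λ K x hx
    refine ⟨⟨z, hzm⟩, ?_⟩
    rw [h, ← hx1]
    congr 1
    exact Subtype.ext hz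

/-- For `B` formally smooth over `A`, `C ⊗_A Ω_{A/Λ} → C ⊗_B Ω_{B/Λ}` is injective. -/
lemma img_injective_of_formallySmooth [Algebra.FormallySmooth A B] (C : Type v) [CommRing C]
    [Algebra B C] [Algebra A C] [IsScalarTower A B C] [Algebra Λ C] [IsScalarTower Λ B C]
    [IsScalarTower Λ A C] : Function.Injective (img Λ A B C) := by
  have hf : Function.Injective (KaehlerDifferential.mapBaseChange Λ A B) := by
    rw [injective_iff_map_eq_zero]
    intro x hx
    obtain ⟨x, rfl⟩ := (Algebra.H1Cotangent.exact_δ_mapBaseChange Λ A B x).mp hx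
    have : Subsingleton (Algebra.H1Cotangent A B) := Algebra.FormallySmooth.subsingleton_h1Cotangent
    rw [Subsingleton.elim x 0, map_zero]
  have hg : Function.Surjective (KaehlerDifferential.map Λ A B B) :=
    KaehlerDifferential.map_surjective Λ A B
  obtain ⟨l, hl⟩ := LinearMap.exists_rightInverse_of_surjective
    (KaehlerDifferential.map Λ A B B) (LinearMap.range_eq_top.2 hg)
  have htfae := (Function.Exact.split_tfae
    (KaehlerDifferential.exact_mapBaseChange_map Λ A B) hf hg).out 0 1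
  obtain ⟨r, hr⟩ := htfae.1 ⟨l, hl⟩
  have hcomp : (r.baseChange C) ∘ₗ ((KaehlerDifferential.mapBaseChange Λ A B).baseChange C) =
      LinearMap.id := by
    rw [← LinearMap.baseChange_comp, hr, LinearMap.baseChange_id]
  intro z z' hzz
  rw [img_apply, img_apply] at hzz
  have := congrArg (r.baseChange C) hzz
  rw [← LinearMap.comp_apply, ← LinearMap.comp_apply, hcomp] at this
  exact (TensorProduct.AlgebraTensorModule.cancelBaseChange A B C C Ω[A⁄Λ]).symm.injective this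

theorem chi_injective_of_formallySmooth [Algebra.FormallySmooth A B]
    (htriv : ((Exal.Ext.infinitesimal K).restrictBase A).IsTrivialOver Λ)
    (χ : ↥(EGA41.imperfection Λ A (B ⧸ K)) →ₗ[B ⧸ K] K.Cotangent)
    (hχ : ((Exal.Ext.infinitesimal K).restrictBase A).IsCharHom Λ χ) : Function.Injective χ := by
  rw [injective_iff_map_eq_zero]
  intro z hz
  rw [chi_eq_zero_iff K htriv χ hχ] at hz
  apply Subtype.ext
  apply img_injective_of_formallySmooth (Λ := Λ) (A := A) (B := B) (B ⧸ K)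
  rw [hz, Submodule.coe_zero, map_zero]

end Inf

end Groth.Agent.H3.CharHom
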