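import Mathlib
import Groth.Agent.Lib.Helper3.Exal.CharHomInf

set_option autoImplicit false
universe u v

namespace Groth.Agent.H3.CharHom
open Exal TensorProduct KaehlerDifferential Groth.Agent.H3.ExalAux

section Kappa

variable {A : Type u} {B C L : Type v} [CommRing A] [CommRing B] [CommRing C] [Algebra A B]
  [Algebra B C] [Algebra A C] [IsScalarTower A B C] [AddCommGroup L] [Module C L]
  {X : Ext B C L}

/-- The derivation `e ↦ e - σ (p e)`, with values in `L`. -/
noncomputable def Sec.kap (σ : Sec A X) (e : X.CharCarrier A) : L :=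
  σ.rho ((1 : C) ⊗ₜ D A (X.CharCarrier A) e)

lemma Sec.inclC_kap (σ : Sec A X) (e : X.CharCarrier A) :
    X.inclC A (σ.kap e) = e - σ.s (algebraMap (X.CharCarrier A) C e) := by
  rw [Sec.kap, σ.incl_rho_tmul_D, map_one, one_mul]

lemma Sec.eq_add (σ : Sec A X) (e : X.CharCarrier A) :
    e = σ.s (algebraMap (X.CharCarrier A) C e) + X.inclC A (σ.kap e) := by
  rw [σ.inclC_kap]; ring

lemma Sec.kap_add (σ : Sec A X) (e e' : X.CharCarrier A) :
    σ.kap (e + e') = σ.kap e + σ.kap e' := by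
  rw [Sec.kap, map_add, TensorProduct.tmul_add, map_add]; rfl

lemma Sec.kap_zero (σ : Sec A X) : σ.kap 0 = 0 := by
  rw [Sec.kap, map_zero, TensorProduct.tmul_zero, map_zero]

lemma Sec.kap_one (σ : Sec A X) : σ.kap 1 = 0 := by
  rw [Sec.kap, Derivation.map_one_eq_zero, TensorProduct.tmul_zero, map_zero]

lemma Sec.kap_mul (σ : Sec A X) (e e' : X.CharCarrier A) :
    σ.kap (e * e') = algebraMap (X.CharCarrier A) C e • σ.kap e' +
      algebraMap (X.CharCarrier A) C e' • σ.kap e := by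
  rw [Sec.kap, Derivation.leibniz, TensorProduct.tmul_add, TensorProduct.tmul_smul,
    TensorProduct.tmul_smul, map_add, ← algebraMap_smul C e, ← algebraMap_smul C e', map_smul,
    map_smul]
  rfl

lemma Sec.kap_inclC (σ : Sec A X) (l : L) : σ.kap (X.inclC A l) = l :=
  σ.rho_deltaL l

lemma Sec.kap_s (σ : Sec A X) (c : C) : σ.kap (σ.s c) = 0 := by
  apply inclC_injective A X
  rw [σ.inclC_kap, σ.hs, sub_self, map_zero]

lemma Sec.kap_algebraMap (σ : Sec A X) (b : B) :
    σ.kap (algebraMap B (X.CharCarrier A) b) = σ.T ((1 : C) ⊗ₜ D A B b) := by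
  rw [σ.T_apply, bcmₗ_tmul_D]; rfl

end Kappa

section Equiv

variable {B C L : Type v} [CommRing B] [CommRing C] [Algebra B C] [AddCommGroup L] [Module C L]

/-- A morphism of extensions is an equivalence. -/
lemma nonempty_equiv_of_hom (X Y : Ext B C L) (φ : X.E →ₐ[B] Y.E)
    (hp : ∀ e, Y.proj (φ e) = X.proj e) (hi : ∀ l, φ (X.incl l) = Y.incl l) :
    Nonempty (X.Equiv Y) := by
  have hinj : Function.Injective φ := by
    rw [injective_iff_map_eq_zero]
    intro e he
    have h1 : X.proj e = 0 := by rw [← hp, he, map_zero]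
    obtain ⟨l, rfl⟩ := (X.isExtension.exact e).1 h1
    rw [hi] at he
    have : l = 0 := Y.isExtension.incl_injective (by rw [he, map_zero])
    rw [this, map_zero]
  have hsurj : Function.Surjective φ := by
    intro y
    obtain ⟨e, he⟩ := X.isExtension.proj_surjective (Y.proj y)
    obtain ⟨l, hl⟩ := exists_incl_eq_sub Y (x := y) (y := φ e) (by rw [hp, he])
    refine ⟨e + X.incl l, ?_⟩
    rw [map_add, hi, hl]; ring
  exact ⟨⟨AlgEquiv.ofBijective φ ⟨hinj, hsurj⟩, hp, hi⟩⟩

end Equiv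

section Extend

variable (A : Type u) (B C : Type v) {L : Type v} [CommRing A] [CommRing B] [CommRing C] [Algebra A B]
  [Algebra B C] [Algebra A C] [IsScalarTower A B C] [AddCommGroup L] [Module C L]

/-- The hypothesis of the injectivity/surjectivity statements. -/
def Hyp (L : Type v) [AddCommGroup L] [Module C L] : Prop :=
  Module.Injective C L ∨
    ((∃ r : C ⊗[B] Ω[B⁄A] →ₗ[C] ↥(EGA41.imperfection A B C),
        ∀ z : ↥(EGA41.imperfection A B C), r z = z) ∧
      ∃ s : Ω[C⁄B] →ₗ[C] Ω[C⁄A], ∀ ω : Ω[C⁄B], KaehlerDifferential.map A B C C (s ω) = ω)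

variable {A B C}

/-- A map killing `Υ` factors through `Ω[C⁄A]`. -/
lemma exists_factor (h : Hyp A B C L) (T : C ⊗[B] Ω[B⁄A] →ₗ[C] L)
    (hT : ∀ z ∈ EGA41.imperfection A B C, T z = 0) :
    ∃ D' : Ω[C⁄A] →ₗ[C] L, ∀ w, D' (KaehlerDifferential.mapBaseChange A B C w) = T w := by
  obtain ⟨m, hm⟩ : ∃ m, m = KaehlerDifferential.mapBaseChange A B C := ⟨_, rfl⟩
  have hker : LinearMap.ker m ≤ LinearMap.ker T := by
    intro z hz
    rw [hm] at hz
    exact hT z hz
  let Tbar : LinearMap.range m →ₗ[C] L :=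
    ((LinearMap.ker m).liftQ T hker) ∘ₗ m.quotKerEquivRange.symm.toLinearMap
  have hTbar : ∀ w (hw : m w ∈ LinearMap.range m), Tbar ⟨m w, hw⟩ = T w := by
    intro w hw
    change ((LinearMap.ker m).liftQ T hker) (m.quotKerEquivRange.symm ⟨m w, hw⟩) = T w
    rw [LinearMap.quotKerEquivRange_symm_apply_image, Submodule.mkQ_apply, Submodule.liftQ_apply]
  rw [← hm]
  rcases h with hinj | ⟨-, s, hs⟩
  · obtain ⟨D', hD'⟩ := hinj.out (LinearMap.range m).subtype (Submodule.subtype_injective _) Tbar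
    exact ⟨D', fun w => (hD' ⟨m w, ⟨w, rfl⟩⟩).trans (hTbar w _)⟩
  · have hP : ∀ ω : Ω[C⁄A],
        ((LinearMap.id : Ω[C⁄A] →ₗ[C] Ω[C⁄A]) - s ∘ₗ KaehlerDifferential.map A B C C) ω ∈
          LinearMap.range m := by
      intro ω
      rw [hm, KaehlerDifferential.range_mapBaseChange, LinearMap.mem_ker, LinearMap.sub_apply,
        map_sub, LinearMap.comp_apply, hs, LinearMap.id_apply, sub_self]
    let P : Ω[C⁄A] →ₗ[C] LinearMap.range m :=
      LinearMap.codRestrict _
        ((LinearMap.id : Ω[C⁄A] →ₗ[C] Ω[C⁄A]) - s ∘ₗ KaehlerDifferential.map A B C C) hP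
    refine ⟨Tbar ∘ₗ P, fun w => ?_⟩
    have h0 : KaehlerDifferential.map A B C C (m w) = 0 := by
      rw [hm]
      exact (KaehlerDifferential.exact_mapBaseChange_map A B C _).2 ⟨w, rfl⟩
    have : P (m w) = ⟨m w, ⟨w, rfl⟩⟩ := by
      apply Subtype.ext
      change ((LinearMap.id : Ω[C⁄A] →ₗ[C] Ω[C⁄A]) - s ∘ₗ KaehlerDifferential.map A B C C) (m w) =
        m w
      rw [LinearMap.sub_apply, LinearMap.comp_apply, h0, map_zero, LinearMap.id_apply, sub_zero]
    rw [LinearMap.comp_apply, this, hTbar]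

/-- A map on `Υ` extends to `C ⊗_B Ω_{B/A}`. -/
lemma exists_extend (h : Hyp A B C L) (χ : ↥(EGA41.imperfection A B C) →ₗ[C] L) :
    ∃ T : C ⊗[B] Ω[B⁄A] →ₗ[C] L, ∀ z : ↥(EGA41.imperfection A B C), T z.1 = χ z := by
  rcases h with hinj | ⟨⟨r, hr⟩, -⟩
  · have h1 := @Module.Injective.out C _ L _ _ hinj ↥(EGA41.imperfection A B C) (C ⊗[B] Ω[B⁄A])
      _ _ _ _ (EGA41.imperfection A B C).subtype (Submodule.subtype_injective _)
    exact h1 χ
  · exact ⟨χ ∘ₗ r, fun z => by rw [LinearMap.comp_apply, hr]⟩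

end Extend

section Inj

variable {A : Type u} {B C L : Type v} [CommRing A] [CommRing B] [CommRing C] [Algebra A B]
  [Algebra B C] [Algebra A C] [IsScalarTower A B C] [AddCommGroup L] [Module C L]

/-- The comparison map between two `A`-trivial extensions, twisted by a derivation of `C`. -/
noncomputable def cmp {X Y : Ext B C L} (σ : Sec A X) (τ : Sec A Y) (D' : Ω[C⁄A] →ₗ[C] L)
    (e : X.CharCarrier A) : Y.CharCarrier A :=
  τ.s (algebraMap (X.CharCarrier A) C e) +
    Y.inclC A (σ.kap e + D' (D A C (algebraMap (X.CharCarrier A) C e)))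

variable {X Y : Ext B C L} (σ : Sec A X) (τ : Sec A Y) (D' : Ω[C⁄A] →ₗ[C] L)

lemma cmp_one : cmp σ τ D' 1 = 1 := by
  rw [cmp, map_one, map_one, σ.kap_one, Derivation.map_one_eq_zero, map_zero, add_zero, map_zero,
    add_zero]

lemma cmp_zero : cmp σ τ D' 0 = 0 := by
  rw [cmp, map_zero, map_zero, σ.kap_zero, map_zero, map_zero, add_zero, map_zero, add_zero]

lemma cmp_add (e e' : X.CharCarrier A) : cmp σ τ D' (e + e') = cmp σ τ D' e + cmp σ τ D' e' := by
  simp only [cmp, map_add, σ.kap_add]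
  abel

lemma cmp_mul (e e' : X.CharCarrier A) : cmp σ τ D' (e * e') = cmp σ τ D' e * cmp σ τ D' e' := by
  have key : ∀ (c c' : C) (l l' : L), (τ.s c + Y.inclC A l) * (τ.s c' + Y.inclC A l') =
      τ.s (c * c') + Y.inclC A (c • l' + c' • l) := by
    intro c c' l l'
    rw [add_mul, mul_add, mul_add, mul_inclC, τ.hs, mul_comm (Y.inclC A l) (τ.s c'),
      mul_inclC, τ.hs, mul_inclC, algebraMap_inclC, zero_smul, map_zero, map_add, map_mul]
    ring
  rw [cmp, cmp, cmp, key, map_mul, σ.kap_mul, Derivation.leibniz]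
  congr 2
  rw [map_add D', map_smul, map_smul, smul_add, smul_add]
  abel

lemma cmp_proj (e : X.CharCarrier A) :
    algebraMap (Y.CharCarrier A) C (cmp σ τ D' e) = algebraMap (X.CharCarrier A) C e := by
  rw [cmp, map_add, τ.hs, algebraMap_inclC, add_zero]

lemma cmp_inclC (l : L) : cmp σ τ D' (X.inclC A l) = Y.inclC A l := by
  rw [cmp, algebraMap_inclC, map_zero, σ.kap_inclC, map_zero, map_zero, add_zero, zero_add]

lemma cmp_algebraMap
    (hD' : ∀ w, D' (KaehlerDifferential.mapBaseChange A B C w) = (τ.T - σ.T) w) (b : B) :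
    cmp σ τ D' (algebraMap B (X.CharCarrier A) b) = algebraMap B (Y.CharCarrier A) b := by
  have h1 : D A C (algebraMap B C b) =
      KaehlerDifferential.mapBaseChange A B C ((1 : C) ⊗ₜ D A B b) := by
    rw [KaehlerDifferential.mapBaseChange_tmul, one_smul, KaehlerDifferential.map_D]
  rw [cmp, ← IsScalarTower.algebraMap_apply, h1, hD', σ.kap_algebraMap, LinearMap.sub_apply,
    add_sub_cancel, ← τ.kap_algebraMap]
  conv_rhs => rw [τ.eq_add (algebraMap B (Y.CharCarrier A) b), ← IsScalarTower.algebraMap_apply]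

theorem nonempty_equiv_of_isCharHom (h : Hyp A B C L) (X Y : Ext B C L)
    (hX : X.IsTrivialOver A) (hY : Y.IsTrivialOver A)
    (χ : ↥(EGA41.imperfection A B C) →ₗ[C] L) (hXχ : X.IsCharHom A χ) (hYχ : Y.IsCharHom A χ) :
    Nonempty (X.Equiv Y) := by
  obtain ⟨σ⟩ := nonempty_sec A X hX
  obtain ⟨τ⟩ := nonempty_sec A Y hY
  have hT : ∀ z ∈ EGA41.imperfection A B C, (τ.T - σ.T) z = 0 := by
    intro z hz
    rw [LinearMap.sub_apply, ← (σ.isCharHom_iff χ).1 hXχ ⟨z, hz⟩,
      ← (τ.isCharHom_iff χ).1 hYχ ⟨z, hz⟩, sub_self]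
  obtain ⟨D', hD'⟩ := exists_factor h (τ.T - σ.T) hT
  let φ : X.E →ₐ[B] Y.E :=
    { toFun := cmp σ τ D'
      map_one' := cmp_one σ τ D'
      map_mul' := cmp_mul σ τ D'
      map_zero' := cmp_zero σ τ D'
      map_add' := cmp_add σ τ D'
      commutes' := cmp_algebraMap σ τ D' hD' }
  exact nonempty_equiv_of_hom X Y φ (cmp_proj σ τ D') (cmp_inclC σ τ D')

end Inj

section Surj

attribute [local instance] Exal.opModule Exal.isCentralScalar_opModule

variable {A : Type u} {B C L : Type v} [CommRing A] [CommRing B] [CommRing C] [Algebra A B]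
  [Algebra B C] [Algebra A C] [IsScalarTower A B C] [AddCommGroup L] [Module C L]

lemma T_one_tmul_smul (T : C ⊗[B] Ω[B⁄A] →ₗ[C] L) (b : B) (ω : Ω[B⁄A]) :
    T ((1 : C) ⊗ₜ (b • ω)) = algebraMap B C b • T ((1 : C) ⊗ₜ ω) := by
  rw [TensorProduct.tmul_smul, ← algebraMap_smul C b, map_smul]

/-- The ring map `B → C ⊕ L`, `b ↦ (v b, T (1 ⊗ d b))`. -/
noncomputable def twHom (T : C ⊗[B] Ω[B⁄A] →ₗ[C] L) : B →+* TrivSqZeroExt C L where
  toFun b := TrivSqZeroExt.inl (algebraMap B C b) + TrivSqZeroExt.inr (T ((1 : C) ⊗ₜ D A B b))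
  map_one' := by
    rw [map_one, Derivation.map_one_eq_zero, TensorProduct.tmul_zero, map_zero,
      TrivSqZeroExt.inr_zero, add_zero, TrivSqZeroExt.inl_one]
  map_mul' x y := by
    apply TrivSqZeroExt.ext
    · simp
    · simp only [TrivSqZeroExt.snd_add, TrivSqZeroExt.snd_inl, TrivSqZeroExt.snd_inr, zero_add,
        TrivSqZeroExt.snd_mul, TrivSqZeroExt.fst_add, TrivSqZeroExt.fst_inl, TrivSqZeroExt.fst_inr,
        add_zero, Derivation.leibniz, op_smul_eq_smul]
      rw [TensorProduct.tmul_add, map_add, T_one_tmul_smul, T_one_tmul_smul, add_comm]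
  map_zero' := by
    rw [map_zero, map_zero, TensorProduct.tmul_zero, map_zero, TrivSqZeroExt.inl_zero,
      TrivSqZeroExt.inr_zero, add_zero]
  map_add' x y := by
    rw [map_add, map_add, TensorProduct.tmul_add, map_add, TrivSqZeroExt.inl_add,
      TrivSqZeroExt.inr_add]
    abel

lemma fst_twHom (T : C ⊗[B] Ω[B⁄A] →ₗ[C] L) (b : B) :
    TrivSqZeroExt.fst (twHom T b) = algebraMap B C b := by
  change TrivSqZeroExt.fst (TrivSqZeroExt.inl (algebraMap B C b) +
    TrivSqZeroExt.inr (T ((1 : C) ⊗ₜ D A B b))) = _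
  rw [TrivSqZeroExt.fst_add, TrivSqZeroExt.fst_inl, TrivSqZeroExt.fst_inr, add_zero]

/-- The extension `C ⊕ L` with `B`-algebra structure twisted by `T`. -/
noncomputable def tw (T : C ⊗[B] Ω[B⁄A] →ₗ[C] L) : Ext B C L := twist (twHom T) (fst_twHom T)

/-- The canonical section of `tw T`. -/
noncomputable def twSec (T : C ⊗[B] Ω[B⁄A] →ₗ[C] L) : Sec A (tw T) where
  s :=
    { toRingHom := (TrivSqZeroExt.inlHom C L : C →+* TrivSqZeroExt C L)
      commutes' := fun a => by
        change TrivSqZeroExt.inl (algebraMap A C a) = twHom T (algebraMap A B a)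
        change _ = TrivSqZeroExt.inl (algebraMap B C (algebraMap A B a)) +
          TrivSqZeroExt.inr (T ((1 : C) ⊗ₜ D A B (algebraMap A B a)))
        rw [Derivation.map_algebraMap, TensorProduct.tmul_zero, map_zero, TrivSqZeroExt.inr_zero,
          add_zero, ← IsScalarTower.algebraMap_apply] }
  hs := fun c => rfl

lemma twSec_T (T : C ⊗[B] Ω[B⁄A] →ₗ[C] L) : (twSec T).T = T := by
  apply ext_one_tmul_D
  intro b
  apply inclC_injective A (tw T)
  rw [(twSec T).inclC_T_tmul_D, map_one, one_mul]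
  change twHom T b - TrivSqZeroExt.inl (algebraMap B C b) = TrivSqZeroExt.inr _
  change TrivSqZeroExt.inl (algebraMap B C b) + TrivSqZeroExt.inr (T ((1 : C) ⊗ₜ D A B b)) -
    TrivSqZeroExt.inl (algebraMap B C b) = _
  rw [add_sub_cancel_left]

theorem exists_isTrivialOver_isCharHom (h : Hyp A B C L)
    (χ : ↥(EGA41.imperfection A B C) →ₗ[C] L) :
    ∃ X : Exal.Ext B C L, X.IsTrivialOver A ∧ X.IsCharHom A χ := by
  obtain ⟨T, hT⟩ := exists_extend h χ
  refine ⟨tw T, isTrivialOver_of_sec A _ (twSec T), ((twSec T).isCharHom_iff χ).2 fun z => ?_⟩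
  rw [twSec_T, hT]

end Surj

section Smooth

variable {A : Type u} {B C L : Type v} [CommRing A] [CommRing B] [CommRing C] [Algebra A B]
  [Algebra B C] [Algebra A C] [IsScalarTower A B C] [AddCommGroup L] [Module C L]

lemma isTrivialOver_of_formallySmooth [Algebra.FormallySmooth A C] (X : Ext B C L) :
    X.IsTrivialOver A := by
  have hg : Function.Surjective (IsScalarTower.toAlgHom A (X.CharCarrier A) C) := surj A X
  have hnil : IsNilpotent (RingHom.ker
      ((IsScalarTower.toAlgHom A (X.CharCarrier A) C : X.CharCarrier A →ₐ[A] C) :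
        X.CharCarrier A →+* C)) := ⟨2, ker_sq_carrier A X⟩
  exact isTrivialOver_of_sec A X
    ⟨Algebra.FormallySmooth.liftOfSurjective (AlgHom.id A C) _ hg hnil,
      fun c => Algebra.FormallySmooth.liftOfSurjective_apply _ _ hg hnil c⟩

lemma hyp_of_formallySmooth [Algebra.FormallySmooth A C] [Module.Projective C Ω[C⁄B]] :
    Hyp A B C L := by
  right
  obtain ⟨s, hs⟩ := LinearMap.exists_rightInverse_of_surjective (KaehlerDifferential.map A B C C)
    (LinearMap.range_eq_top.2 (KaehlerDifferential.map_surjective A B C))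
  have hs' : ∀ ω, KaehlerDifferential.map A B C C (s ω) = ω := fun ω => LinearMap.congr_fun hs ω
  refine ⟨?_, s, hs'⟩
  obtain ⟨m, hm⟩ : ∃ m, m = KaehlerDifferential.mapBaseChange A B C := ⟨_, rfl⟩
  have hP : ∀ ω : Ω[C⁄A],
      ((LinearMap.id : Ω[C⁄A] →ₗ[C] Ω[C⁄A]) - s ∘ₗ KaehlerDifferential.map A B C C) ω ∈
        LinearMap.range m := by
    intro ω
    rw [hm, KaehlerDifferential.range_mapBaseChange, LinearMap.mem_ker, LinearMap.sub_apply,
      map_sub, LinearMap.comp_apply, hs', LinearMap.id_apply, sub_self]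
  let P : Ω[C⁄A] →ₗ[C] LinearMap.range m :=
    LinearMap.codRestrict _
      ((LinearMap.id : Ω[C⁄A] →ₗ[C] Ω[C⁄A]) - s ∘ₗ KaehlerDifferential.map A B C C) hP
  have hPsub : ∀ x : LinearMap.range m, P ((LinearMap.range m).subtype x) = x := by
    rintro ⟨x, hx⟩
    have h0 : KaehlerDifferential.map A B C C x = 0 := by
      rw [hm, KaehlerDifferential.range_mapBaseChange] at hx
      exact hx
    apply Subtype.ext
    change ((LinearMap.id : Ω[C⁄A] →ₗ[C] Ω[C⁄A]) - s ∘ₗ KaehlerDifferential.map A B C C) x = x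
    rw [LinearMap.sub_apply, LinearMap.comp_apply, h0, map_zero, LinearMap.id_apply, sub_zero]
  have hproj : Module.Projective C (LinearMap.range m) :=
    Module.Projective.of_split (LinearMap.range m).subtype P (LinearMap.ext hPsub)
  obtain ⟨t, ht⟩ := LinearMap.exists_rightInverse_of_surjective m.rangeRestrict
    (LinearMap.range_rangeRestrict m)
  have ht' : ∀ x, m.rangeRestrict (t x) = x := fun x => LinearMap.congr_fun ht x
  have hr : ∀ z : C ⊗[B] Ω[B⁄A],
      ((LinearMap.id : C ⊗[B] Ω[B⁄A] →ₗ[C] C ⊗[B] Ω[B⁄A]) - t ∘ₗ m.rangeRestrict) z ∈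
        EGA41.imperfection A B C := by
    intro z
    rw [mem_imperfection_iff, ← hm, LinearMap.sub_apply, map_sub, LinearMap.comp_apply,
      LinearMap.id_apply]
    have := congrArg Subtype.val (ht' (m.rangeRestrict z))
    rw [LinearMap.codRestrict_apply, LinearMap.codRestrict_apply] at this
    rw [this, sub_self]
  refine ⟨LinearMap.codRestrict _ _ hr, fun z => ?_⟩
  apply Subtype.ext
  change ((LinearMap.id : C ⊗[B] Ω[B⁄A] →ₗ[C] C ⊗[B] Ω[B⁄A]) - t ∘ₗ m.rangeRestrict) z.1 = z.1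
  have hz : m.rangeRestrict z.1 = 0 := by
    apply Subtype.ext
    rw [LinearMap.codRestrict_apply, hm]
    exact z.2
  rw [LinearMap.sub_apply, LinearMap.comp_apply, hz, map_zero, LinearMap.id_apply, sub_zero]

theorem main_of_formallySmooth [Algebra.FormallySmooth A C] [Module.Projective C Ω[C⁄B]] :
    (∀ (X Y : Exal.Ext B C L) (χ : ↥(EGA41.imperfection A B C) →ₗ[C] L),
        X.IsCharHom A χ → Y.IsCharHom A χ → Nonempty (X.Equiv Y)) ∧
      ∀ χ : ↥(EGA41.imperfection A B C) →ₗ[C] L, ∃ X : Exal.Ext B C L, X.IsCharHom A χ := by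
  have h : Hyp A B C L := hyp_of_formallySmooth
  refine ⟨fun X Y χ hX hY => nonempty_equiv_of_isCharHom h X Y
    (isTrivialOver_of_formallySmooth X) (isTrivialOver_of_formallySmooth Y) χ hX hY, fun χ => ?_⟩
  obtain ⟨X, -, hX⟩ := exists_isTrivialOver_isCharHom h χ
  exact ⟨X, hX⟩

end Smooth

end Groth.Agent.H3.CharHom
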