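import Mathlib
import Groth.Prelude.Def_EGA41

set_option autoImplicit false

namespace Groth.Agent.H3.Imperf
open TensorProduct KaehlerDifferential

section Tower

variable (Λ A B C : Type*) [CommRing Λ] [CommRing A] [CommRing B] [CommRing C]
  [Algebra Λ A] [Algebra Λ B] [Algebra A B] [IsScalarTower Λ A B]
  [Algebra B C] [Algebra A C] [IsScalarTower A B C] [Algebra Λ C] [IsScalarTower Λ B C]
  [IsScalarTower Λ A C]

/-- The map `C ⊗_A Ω_{A/Λ} → C ⊗_B Ω_{B/Λ}`. -/
noncomputable def img : C ⊗[A] Ω[A⁄Λ] →ₗ[C] C ⊗[B] Ω[B⁄Λ] :=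
  ((KaehlerDifferential.mapBaseChange Λ A B).baseChange C) ∘ₗ
    (TensorProduct.AlgebraTensorModule.cancelBaseChange A B C C Ω[A⁄Λ]).symm.toLinearMap

/-- The map `C ⊗_B Ω_{B/Λ} → C ⊗_B Ω_{B/A}`. -/
noncomputable def pr : C ⊗[B] Ω[B⁄Λ] →ₗ[C] C ⊗[B] Ω[B⁄A] :=
  (KaehlerDifferential.map Λ A B B).baseChange C

variable {Λ A B C}

lemma img_apply (z : C ⊗[A] Ω[A⁄Λ]) :
    img Λ A B C z = ((KaehlerDifferential.mapBaseChange Λ A B).baseChange C)
      ((TensorProduct.AlgebraTensorModule.cancelBaseChange A B C C Ω[A⁄Λ]).symm z) := rfl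

lemma img_tmul (c : C) (ω : Ω[A⁄Λ]) :
    img Λ A B C (c ⊗ₜ ω) = c ⊗ₜ KaehlerDifferential.map Λ Λ A B ω := by
  rw [img_apply, TensorProduct.AlgebraTensorModule.cancelBaseChange_symm_tmul,
    LinearMap.baseChange_tmul, KaehlerDifferential.mapBaseChange_tmul, one_smul]

lemma map_map' (ω : Ω[A⁄Λ]) :
    KaehlerDifferential.map Λ Λ B C (KaehlerDifferential.map Λ Λ A B ω) =
      KaehlerDifferential.map Λ Λ A C ω := by
  have hω : ω ∈ Submodule.span A (Set.range (D Λ A)) := by
    rw [KaehlerDifferential.span_range_derivation]; trivial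
  induction hω using Submodule.span_induction with
  | mem x hx =>
    obtain ⟨b, rfl⟩ := hx
    rw [KaehlerDifferential.map_D, KaehlerDifferential.map_D, KaehlerDifferential.map_D,
      ← IsScalarTower.algebraMap_apply]
  | zero => simp
  | add x y _ _ hx hy => rw [map_add, map_add, map_add, hx, hy]
  | smul b x _ hx =>
    rw [map_smul (KaehlerDifferential.map Λ Λ A B),
      map_smul (KaehlerDifferential.map Λ Λ A C),
      ← IsScalarTower.algebraMap_smul B b, map_smul, hx,
      IsScalarTower.algebraMap_smul]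

lemma mapBaseChange_img (z : C ⊗[A] Ω[A⁄Λ]) :
    KaehlerDifferential.mapBaseChange Λ B C (img Λ A B C z) =
      KaehlerDifferential.mapBaseChange Λ A C z := by
  induction z using TensorProduct.induction_on with
  | zero => simp
  | tmul c ω =>
    rw [img_tmul, KaehlerDifferential.mapBaseChange_tmul, KaehlerDifferential.mapBaseChange_tmul,
      map_map']
  | add x y hx hy => rw [map_add, map_add, hx, hy, map_add]

lemma pr_apply (z : C ⊗[B] Ω[B⁄Λ]) :
    pr Λ A B C z = (KaehlerDifferential.map Λ A B B).baseChange C z := rfl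

lemma pr_tmul (c : C) (ω : Ω[B⁄Λ]) :
    pr Λ A B C (c ⊗ₜ ω) = c ⊗ₜ KaehlerDifferential.map Λ A B B ω :=
  LinearMap.baseChange_tmul _ _ _

lemma pr_img (z : C ⊗[A] Ω[A⁄Λ]) : pr Λ A B C (img Λ A B C z) = 0 := by
  induction z using TensorProduct.induction_on with
  | zero => simp
  | tmul c ω =>
    rw [img_tmul, pr_tmul]
    have h := (KaehlerDifferential.exact_mapBaseChange_map Λ A B
      (KaehlerDifferential.mapBaseChange Λ A B (1 ⊗ₜ ω))).2 ⟨_, rfl⟩
    rw [KaehlerDifferential.mapBaseChange_tmul, one_smul] at h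
    rw [h, TensorProduct.tmul_zero]
  | add x y hx hy => rw [map_add, map_add, hx, hy, add_zero]

lemma exists_img_eq_of_pr_eq_zero (w : C ⊗[B] Ω[B⁄Λ]) (hw : pr Λ A B C w = 0) :
    ∃ z : C ⊗[A] Ω[A⁄Λ], img Λ A B C z = w := by
  have hex := lTensor_exact C (KaehlerDifferential.exact_mapBaseChange_map Λ A B)
    (KaehlerDifferential.map_surjective Λ A B)
  have hw' : (KaehlerDifferential.map Λ A B B).lTensor C w = 0 := by
    rw [← hw]; rfl
  obtain ⟨y, hy⟩ := (hex w).1 hw'
  refine ⟨TensorProduct.AlgebraTensorModule.cancelBaseChange A B C C Ω[A⁄Λ] y, ?_⟩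
  rw [img_apply, LinearEquiv.symm_apply_apply, ← hy]
  rfl

lemma pr_surjective : Function.Surjective (pr Λ A B C) := by
  have h : Function.Surjective ((KaehlerDifferential.map Λ A B B).lTensor C) :=
    LinearMap.lTensor_surjective C (KaehlerDifferential.map_surjective Λ A B)
  exact h

/-- `m` naturality: `Ω[C⁄Λ] → Ω[C⁄A]` after `C ⊗_B Ω_{B/Λ} → Ω[C⁄Λ]`. -/
lemma map_mapBaseChange (z : C ⊗[B] Ω[B⁄Λ]) :
    KaehlerDifferential.map Λ A C C (KaehlerDifferential.mapBaseChange Λ B C z) =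
      KaehlerDifferential.mapBaseChange A B C (pr Λ A B C z) := by
  induction z using TensorProduct.induction_on with
  | zero => simp
  | tmul c ω =>
    rw [pr_tmul, KaehlerDifferential.mapBaseChange_tmul, KaehlerDifferential.mapBaseChange_tmul,
      map_smul]
    congr 1
    have hω : ω ∈ Submodule.span B (Set.range (D Λ B)) := by
      rw [KaehlerDifferential.span_range_derivation]; trivial
    induction hω using Submodule.span_induction with
    | mem x hx =>
      obtain ⟨b, rfl⟩ := hx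
      simp only [KaehlerDifferential.map_D]
      rfl
    | zero => simp
    | add x y _ _ hx hy => simp only [map_add, hx, hy]
    | smul b x _ hx =>
      rw [map_smul (KaehlerDifferential.map Λ Λ B C), map_smul (KaehlerDifferential.map Λ A B B),
        map_smul (KaehlerDifferential.map A A B C),
        ← IsScalarTower.algebraMap_smul C b, map_smul, hx, IsScalarTower.algebraMap_smul]
  | add x y hx hy => simp only [map_add, hx, hy]

end Tower

universe w in
lemma mem_imperfection_iff {Λ : Type*} {B C : Type w} [CommRing Λ] [CommRing B] [CommRing C]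
    [Algebra Λ B] [Algebra B C] [Algebra Λ C] [IsScalarTower Λ B C] (z : C ⊗[B] Ω[B⁄Λ]) :
    z ∈ EGA41.imperfection Λ B C ↔ KaehlerDifferential.mapBaseChange Λ B C z = 0 := Iff.rfl

section Five

variable {Λ Λ' A B C : Type*} [CommRing Λ] [CommRing Λ'] [CommRing A] [CommRing B] [CommRing C]
  [Algebra Λ Λ'] [Algebra Λ A] [Algebra Λ' A] [IsScalarTower Λ Λ' A]
  [Algebra Λ B] [Algebra Λ' B] [Algebra A B] [IsScalarTower Λ Λ' B] [IsScalarTower Λ' A B]
  [IsScalarTower Λ A B]
  [Algebra B C] [Algebra Λ C] [Algebra Λ' C] [Algebra A C]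
  [IsScalarTower Λ B C] [IsScalarTower Λ' B C] [IsScalarTower A B C]
  [IsScalarTower Λ Λ' C] [IsScalarTower Λ A C] [IsScalarTower Λ' A C]

lemma map_comp_change (ω : Ω[B⁄Λ]) :
    KaehlerDifferential.map Λ' A B B (KaehlerDifferential.map Λ Λ' B B ω) =
      KaehlerDifferential.map Λ A B B ω := by
  have hω : ω ∈ Submodule.span B (Set.range (D Λ B)) := by
    rw [KaehlerDifferential.span_range_derivation]; trivial
  induction hω using Submodule.span_induction with
  | mem x hx =>
    obtain ⟨b, rfl⟩ := hx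
    simp only [KaehlerDifferential.map_D]
    rfl
  | zero => simp
  | add x y _ _ hx hy => simp only [map_add, hx, hy]
  | smul b x _ hx => simp only [map_smul, hx]

/-- `g₃ ∘ g₁ = g₂`. -/
lemma pr_pr (z : C ⊗[B] Ω[B⁄Λ]) : pr Λ' A B C (pr Λ Λ' B C z) = pr Λ A B C z := by
  induction z using TensorProduct.induction_on with
  | zero => simp
  | tmul c ω => rw [pr_tmul, pr_tmul, pr_tmul, map_comp_change]
  | add x y hx hy => simp only [map_add, hx, hy]

lemma map_change_img (ω : Ω[A⁄Λ]) :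
    KaehlerDifferential.map Λ Λ' B B (KaehlerDifferential.map Λ Λ A B ω) =
      KaehlerDifferential.map Λ' Λ' A B (KaehlerDifferential.map Λ Λ' A A ω) := by
  have hω : ω ∈ Submodule.span A (Set.range (D Λ A)) := by
    rw [KaehlerDifferential.span_range_derivation]; trivial
  induction hω using Submodule.span_induction with
  | mem x hx =>
    obtain ⟨b, rfl⟩ := hx
    simp only [KaehlerDifferential.map_D]
    rfl
  | zero => simp
  | add x y _ _ hx hy => simp only [map_add, hx, hy]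
  | smul a x _ hx =>
    rw [map_smul (KaehlerDifferential.map Λ Λ A B), map_smul (KaehlerDifferential.map Λ Λ' A A),
      map_smul (KaehlerDifferential.map Λ' Λ' A B), ← IsScalarTower.algebraMap_smul B a, map_smul,
      hx, IsScalarTower.algebraMap_smul]

/-- Naturality of `img` in the base. -/
lemma pr_img_change (y : C ⊗[A] Ω[A⁄Λ]) :
    pr Λ Λ' B C (img Λ A B C y) = img Λ' A B C (pr Λ Λ' A C y) := by
  induction y using TensorProduct.induction_on with
  | zero => simp
  | tmul c ω => rw [img_tmul, pr_tmul, pr_tmul, img_tmul, map_change_img]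
  | add x y hx hy => simp only [map_add, hx, hy]

/-- The key lifting statement. -/
theorem exists_lift (w : C ⊗[B] Ω[B⁄Λ']) (hw : KaehlerDifferential.mapBaseChange Λ' B C w = 0)
    (hw2 : pr Λ' A B C w = 0) :
    ∃ z : C ⊗[B] Ω[B⁄Λ], KaehlerDifferential.mapBaseChange Λ B C z = 0 ∧ pr Λ A B C z = 0 ∧
      pr Λ Λ' B C z = w := by
  obtain ⟨y, hy⟩ := exists_img_eq_of_pr_eq_zero w hw2
  obtain ⟨y', hy'⟩ := pr_surjective (Λ := Λ) (A := Λ') (B := A) (C := C) y
  obtain ⟨z₀, hz₀⟩ : ∃ z₀, z₀ = img Λ A B C y' := ⟨_, rfl⟩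
  have h1 : pr Λ Λ' B C z₀ = w := by rw [hz₀, pr_img_change, hy', hy]
  have h2 : pr Λ A B C z₀ = 0 := by rw [hz₀, pr_img]
  have h3 : KaehlerDifferential.map Λ Λ' C C (KaehlerDifferential.mapBaseChange Λ B C z₀) = 0 := by
    rw [map_mapBaseChange, h1, hw]
  obtain ⟨t, ht⟩ := (KaehlerDifferential.exact_mapBaseChange_map Λ Λ' C _).1 h3
  obtain ⟨z₁, hz₁⟩ : ∃ z₁, z₁ = img Λ Λ' B C t := ⟨_, rfl⟩
  have h4 : KaehlerDifferential.mapBaseChange Λ B C z₁ =
      KaehlerDifferential.mapBaseChange Λ B C z₀ := by rw [hz₁, mapBaseChange_img, ht]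
  have h5 : pr Λ Λ' B C z₁ = 0 := by rw [hz₁, pr_img]
  have h6 : pr Λ A B C z₁ = 0 := by rw [← pr_pr (Λ' := Λ'), h5, map_zero]
  refine ⟨z₀ - z₁, ?_, ?_, ?_⟩
  · rw [map_sub, h4, sub_self]
  · rw [map_sub, h2, h6, sub_self]
  · rw [map_sub, h1, h5, sub_zero]

end Five

section Rank

universe u u' u'' w

/-- Abstract rank lemma: for `g₁ : V → V'`, submodules `U ≤ V`, `U' ≤ V'`, `N ≤ V` with
`g₁ U ⊆ U'` ... -/
lemma rank_eq_add_of_surjOn {L : Type*} {V V' : Type w} [Field L] [AddCommGroup V] [Module L V]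
    [AddCommGroup V'] [Module L V'] (g₁ : V →ₗ[L] V') (S₂ : Submodule L V) (S₃ : Submodule L V')
    (hmaps : ∀ z ∈ S₂, g₁ z ∈ S₃) (hsurj : ∀ w ∈ S₃, ∃ z ∈ S₂, g₁ z = w) :
    Module.rank L S₂ = Module.rank L S₃ + Module.rank L ↥(S₂ ⊓ LinearMap.ker g₁) := by
  let φ : S₂ →ₗ[L] S₃ := g₁.restrict hmaps
  have hφ : Function.Surjective φ := by
    rintro ⟨w, hw⟩
    obtain ⟨z, hz, rfl⟩ := hsurj w hw
    exact ⟨⟨z, hz⟩, rfl⟩
  have h1 := LinearMap.rank_range_add_rank_ker φ
  rw [LinearMap.range_eq_top.2 hφ, rank_top] at h1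
  have h2 : (LinearMap.ker φ).map S₂.subtype = S₂ ⊓ LinearMap.ker g₁ := by
    ext z
    constructor
    · rintro ⟨⟨y, hy⟩, hyk, rfl⟩
      refine ⟨hy, ?_⟩
      have := congrArg Subtype.val (LinearMap.mem_ker.1 hyk)
      exact this
    · rintro ⟨hz, hzk⟩
      exact ⟨⟨z, hz⟩, LinearMap.mem_ker.2 (Subtype.ext hzk), rfl⟩
  have h3 : Module.rank L (LinearMap.ker φ) = Module.rank L ↥(S₂ ⊓ LinearMap.ker g₁) := by
    rw [← h2]
    exact (S₂.equivSubtypeMap (LinearMap.ker φ)).rank_eq
  rw [← h1, h3]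

theorem main_5836 {k : Type u} {k' : Type u'} {k'' : Type u''} {K L : Type w}
    [Field k] [Field k'] [Field k''] [Field K] [Field L]
    [Algebra k k'] [Algebra k k''] [Algebra k' k''] [IsScalarTower k k' k'']
    [Algebra k K] [Algebra k' K] [Algebra k'' K] [IsScalarTower k k' K] [IsScalarTower k' k'' K]
    [IsScalarTower k k'' K] [Algebra K L] [Algebra k L] [Algebra k' L] [Algebra k'' L]
    [IsScalarTower k K L] [IsScalarTower k' K L] [IsScalarTower k'' K L] :
    (∀ w : L ⊗[K] Ω[K⁄k'], w ∈ EGA41.imperfection k' K L →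
        (KaehlerDifferential.map k' k'' K K).baseChange L w = 0 →
          ∃ z : L ⊗[K] Ω[K⁄k], z ∈ EGA41.imperfection k K L ∧
            (KaehlerDifferential.map k k'' K K).baseChange L z = 0 ∧
              (KaehlerDifferential.map k k' K K).baseChange L z = w) ∧
      Module.rank L ↥(EGA41.imperfection k K L ⊓
            LinearMap.ker ((KaehlerDifferential.map k k'' K K).baseChange L)) =
        Module.rank L ↥(EGA41.imperfection k' K L ⊓
              LinearMap.ker ((KaehlerDifferential.map k' k'' K K).baseChange L)) +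
          Module.rank L ↥(EGA41.imperfection k K L ⊓
              LinearMap.ker ((KaehlerDifferential.map k k' K K).baseChange L)) := by
  have t1 : IsScalarTower k k' L := IsScalarTower.of_algebraMap_eq (fun x => by
    rw [IsScalarTower.algebraMap_apply k K L, IsScalarTower.algebraMap_apply k k' K,
      ← IsScalarTower.algebraMap_apply k' K L])
  have t2 : IsScalarTower k k'' L := IsScalarTower.of_algebraMap_eq (fun x => by
    rw [IsScalarTower.algebraMap_apply k K L, IsScalarTower.algebraMap_apply k k'' K,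
      ← IsScalarTower.algebraMap_apply k'' K L])
  have t3 : IsScalarTower k' k'' L := IsScalarTower.of_algebraMap_eq (fun x => by
    rw [IsScalarTower.algebraMap_apply k' K L, IsScalarTower.algebraMap_apply k' k'' K,
      ← IsScalarTower.algebraMap_apply k'' K L])
  have part1 : ∀ w : L ⊗[K] Ω[K⁄k'], w ∈ EGA41.imperfection k' K L →
      pr k' k'' K L w = 0 →
        ∃ z : L ⊗[K] Ω[K⁄k], z ∈ EGA41.imperfection k K L ∧ pr k k'' K L z = 0 ∧
          pr k k' K L z = w := fun w hw hw2 => exists_lift w hw hw2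
  refine ⟨part1, ?_⟩
  have hmaps : ∀ z ∈ EGA41.imperfection k K L ⊓ LinearMap.ker (pr k k'' K L),
      pr k k' K L z ∈ EGA41.imperfection k' K L ⊓ LinearMap.ker (pr k' k'' K L) := by
    rintro z ⟨hz1, hz2⟩
    refine ⟨?_, ?_⟩
    · change KaehlerDifferential.mapBaseChange k' K L (pr k k' K L z) = 0
      rw [← map_mapBaseChange, (mem_imperfection_iff z).1 hz1, map_zero]
    · change pr k' k'' K L (pr k k' K L z) = 0
      rw [pr_pr]
      exact hz2
  have hsurj : ∀ w ∈ EGA41.imperfection k' K L ⊓ LinearMap.ker (pr k' k'' K L),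
      ∃ z ∈ EGA41.imperfection k K L ⊓ LinearMap.ker (pr k k'' K L), pr k k' K L z = w := by
    rintro w ⟨hw1, hw2⟩
    obtain ⟨z, hz1, hz2, hz3⟩ := part1 w hw1 hw2
    exact ⟨z, ⟨hz1, hz2⟩, hz3⟩
  have hrank := rank_eq_add_of_surjOn (pr k k' K L) _ _ hmaps hsurj
  have hinf : EGA41.imperfection k K L ⊓ LinearMap.ker (pr k k'' K L) ⊓
      LinearMap.ker (pr k k' K L) = EGA41.imperfection k K L ⊓ LinearMap.ker (pr k k' K L) := by
    ext z
    constructor
    · rintro ⟨⟨h1, -⟩, h3⟩
      exact ⟨h1, h3⟩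
    · rintro ⟨h1, h3⟩
      refine ⟨⟨h1, ?_⟩, h3⟩
      change pr k k'' K L z = 0
      have h3' : pr k k' K L z = 0 := h3
      rw [← pr_pr (Λ' := k'), h3', map_zero]
  rw [hinf] at hrank
  exact hrank

end Rank

end Groth.Agent.H3.Imperf
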