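import Mathlib
import Groth.Agent.Lib.Helper3.Exal.ImperfTower
import Groth.Agent.Lib.Helper3.CA.SepSmoothU
import Groth.Agent.Lib.Helper5.CA.PerfGR

set_option autoImplicit false

namespace Groth.Agent.H3.Imperf
open TensorProduct KaehlerDifferential

universe v w

/-- For a formally smooth `A`-algebra `C`, `C ⊗_A Ω_{A/Λ} → Ω_{C/Λ}` is injective. -/
lemma mapBaseChange_injective_of_formallySmooth (Λ A C : Type*) [CommRing Λ] [CommRing A]
    [CommRing C] [Algebra Λ A] [Algebra A C] [Algebra Λ C] [IsScalarTower Λ A C]
    [Algebra.FormallySmooth A C] :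
    Function.Injective (KaehlerDifferential.mapBaseChange Λ A C) := by
  rw [injective_iff_map_eq_zero]
  intro x hx
  obtain ⟨x, rfl⟩ := (Algebra.H1Cotangent.exact_δ_mapBaseChange Λ A C x).mp hx
  have : Subsingleton (Algebra.H1Cotangent A C) := Algebra.FormallySmooth.subsingleton_h1Cotangent
  rw [Subsingleton.elim x 0, map_zero]

/-- A `k₀`-derivation vanishes on `k₀[K^p]` when `p = 0` in `K`. -/
lemma D_eq_zero_of_mem_pPowerSubalgebra {k₀ K : Type w} [Field k₀] [Field K] [Algebra k₀ K]
    (p : ℕ) [CharP K p] (y : K) (hy : y ∈ EGA41.pPowerSubalgebra p k₀ K) : D k₀ K y = 0 := by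
  induction hy using Algebra.adjoin_induction with
  | mem x hx =>
    obtain ⟨b, rfl⟩ := hx
    rw [Derivation.leibniz_pow]
    have : (p : K) = 0 := CharP.cast_eq_zero K p
    rw [← Nat.cast_smul_eq_nsmul K p, this, zero_smul]
  | algebraMap r => exact Derivation.map_algebraMap _ r
  | add x y _ _ hx hy => rw [map_add, hx, hy, add_zero]
  | mul x y _ _ hx hy => rw [Derivation.leibniz, hx, hy, smul_zero, smul_zero, add_zero]

theorem main_5835 {k : Type v} {k₀ K L : Type w}
    [Field k₀] [Field k] [Field K] [Field L] [Algebra k₀ k] [Algebra k₀ K] [Algebra k₀ L] [Algebra k K]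
    [Algebra k L] [Algebra K L] [IsScalarTower k₀ k K] [IsScalarTower k₀ k L] [IsScalarTower k₀ K L]
    [IsScalarTower k K L] (p : ℕ) [ExpChar K p]
    (h : Algebra.IsGeometricallyReduced k L ∨ Algebra.IsGeometricallyReduced K L ∨
      ∀ x : k, algebraMap k K x ∈ EGA41.pPowerSubalgebra p k₀ K) :
    ∀ z : L ⊗[K] Ω[K⁄k₀], z ∈ EGA41.imperfection k₀ K L →
      (KaehlerDifferential.map k₀ k K K).baseChange L z = 0 → z = 0 := by
  intro z hz hz2
  have case2 : Algebra.IsGeometricallyReduced K L → z = 0 := by
    intro hgr
    have hfs : Algebra.FormallySmooth K L :=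
      Groth.Agent.H3.SepU.formallySmooth_of_isGeometricallyReduced' K L
    exact mapBaseChange_injective_of_formallySmooth k₀ K L
      (((mem_imperfection_iff z).1 hz).trans (map_zero _).symm)
  rcases h with h1 | h2 | h3
  · have hfs : Algebra.FormallySmooth k L :=
      Groth.Agent.H3.SepU.formallySmooth_of_isGeometricallyReduced' k L
    obtain ⟨y, rfl⟩ := exists_img_eq_of_pr_eq_zero (Λ := k₀) (A := k) (B := K) (C := L) z hz2
    have hy : KaehlerDifferential.mapBaseChange k₀ k L y = 0 := by
      rw [← mapBaseChange_img (B := K)]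
      exact hz
    rw [mapBaseChange_injective_of_formallySmooth k₀ k L (hy.trans (map_zero _).symm), map_zero]
  · exact case2 h2
  · obtain ⟨hp⟩ | ⟨hp⟩ := ‹ExpChar K p›
    · -- characteristic zero
      have : PerfectField K := PerfectField.ofCharZero
      exact case2 (Groth.Agent.H5.isGeometricallyReduced_of_perfectField K L)
    · -- `p` prime: `Ω_{K/k₀} → Ω_{K/k}` is injective
      have hD : ∀ x : k, D k₀ K (algebraMap k K x) = 0 := fun x =>
        D_eq_zero_of_mem_pPowerSubalgebra p _ (h3 x)
      have hmbc : ∀ y : K ⊗[k] Ω[k⁄k₀], KaehlerDifferential.mapBaseChange k₀ k K y = 0 := by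
        intro y
        induction y using TensorProduct.induction_on with
        | zero => simp
        | tmul c ω =>
          rw [KaehlerDifferential.mapBaseChange_tmul]
          have hω : ω ∈ Submodule.span k (Set.range (D k₀ k)) := by
            rw [KaehlerDifferential.span_range_derivation]; trivial
          have : KaehlerDifferential.map k₀ k₀ k K ω = 0 := by
            induction hω using Submodule.span_induction with
            | mem x hx =>
              obtain ⟨b, rfl⟩ := hx
              rw [KaehlerDifferential.map_D, hD]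
            | zero => simp
            | add x y _ _ hx hy => rw [map_add, hx, hy, add_zero]
            | smul a x _ hx => rw [map_smul, hx, smul_zero]
          rw [this, smul_zero]
        | add x y hx hy => rw [map_add, hx, hy, add_zero]
      have hinj : Function.Injective (KaehlerDifferential.map k₀ k K K) := by
        rw [injective_iff_map_eq_zero]
        intro ω hω
        obtain ⟨y, rfl⟩ := (KaehlerDifferential.exact_mapBaseChange_map k₀ k K ω).1 hω
        exact hmbc y
      have hinj' : Function.Injective ((KaehlerDifferential.map k₀ k K K).baseChange L) :=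
        Module.Flat.lTensor_preserves_injective_linearMap _ hinj
      exact hinj' (hz2.trans (map_zero _).symm)

end Groth.Agent.H3.Imperf
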