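import Mathlib
import Groth.Agent.Lib.Helper3.Exal.ImperfTower

set_option autoImplicit false

namespace Groth.Agent.H3.Imperf
open TensorProduct KaehlerDifferential

section Gen

/-- Kernel of a base-changed pair of maps. -/
lemma baseChange_prod_eq_zero_iff {R S : Type*} [CommRing R] [CommRing S] [Algebra R S]
    {N P Q : Type*} [AddCommGroup N] [AddCommGroup P] [AddCommGroup Q] [Module R N] [Module R P]
    [Module R Q] (f : N →ₗ[R] P) (g : N →ₗ[R] Q) (y : S ⊗[R] N) :
    (f.prod g).baseChange S y = 0 ↔ f.baseChange S y = 0 ∧ g.baseChange S y = 0 := by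
  have h1 : ∀ t : S ⊗[R] (P × Q), TensorProduct.prodRight R S S P Q t =
      ((LinearMap.fst R P Q).baseChange S t, (LinearMap.snd R P Q).baseChange S t) := by
    intro t
    induction t using TensorProduct.induction_on with
    | zero => simp only [map_zero]; rfl
    | tmul s pq => simp
    | add x y hx hy => simp only [map_add, hx, hy, Prod.mk_add_mk]
  have h2 : (LinearMap.fst R P Q).baseChange S ((f.prod g).baseChange S y) = f.baseChange S y := by
    rw [← LinearMap.comp_apply, ← LinearMap.baseChange_comp, LinearMap.fst_prod]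
  have h3 : (LinearMap.snd R P Q).baseChange S ((f.prod g).baseChange S y) = g.baseChange S y := by
    rw [← LinearMap.comp_apply, ← LinearMap.baseChange_comp, LinearMap.snd_prod]
  constructor
  · intro h
    rw [← h2, ← h3, h, map_zero, map_zero]
    exact ⟨rfl, rfl⟩
  · rintro ⟨hf, hg⟩
    apply (TensorProduct.prodRight R S S P Q).injective
    rw [h1, h2, h3, hf, hg, map_zero]
    rfl

end Gen

section Four

variable {Λ A B C D : Type*} [CommRing Λ] [CommRing A] [CommRing B] [CommRing C] [CommRing D]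
  [Algebra Λ A] [Algebra Λ B] [Algebra A B] [IsScalarTower Λ A B]
  [Algebra Λ C] [Algebra A C] [Algebra B C] [IsScalarTower Λ A C] [IsScalarTower Λ B C]
  [IsScalarTower A B C]
  [Algebra Λ D] [Algebra A D] [Algebra B D] [Algebra C D] [IsScalarTower Λ A D]
  [IsScalarTower Λ B D] [IsScalarTower Λ C D] [IsScalarTower A B D] [IsScalarTower A C D]
  [IsScalarTower B C D]

lemma img_img (y : D ⊗[A] Ω[A⁄Λ]) : img Λ B C D (img Λ A B D y) = img Λ A C D y := by
  induction y using TensorProduct.induction_on with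
  | zero => simp
  | tmul c ω => rw [img_tmul, img_tmul, img_tmul, map_map']
  | add x y hx hy => simp only [map_add, hx, hy]

end Four

section Main

universe u u' w

variable {k₀ : Type u} {k : Type u'} {K L M : Type w}
    [Field k₀] [Field k] [Field K] [Field L] [Field M] [Algebra k₀ k]
    [Algebra k₀ K] [Algebra k K] [IsScalarTower k₀ k K] [Algebra k₀ L] [Algebra k L] [IsScalarTower k₀ k L]
    [Algebra K L] [Algebra K M] [Algebra L M] [IsScalarTower K L M]
    [Algebra k₀ M] [Algebra k M] [IsScalarTower k₀ K L] [IsScalarTower k K L]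
    [IsScalarTower k₀ K M] [IsScalarTower k K M] [IsScalarTower k₀ L M] [IsScalarTower k L M]
    [IsScalarTower k₀ k M]

lemma pr_cancel (y : M ⊗[L] (L ⊗[K] Ω[K⁄k₀])) :
    pr k₀ k K M (TensorProduct.AlgebraTensorModule.cancelBaseChange K L M M Ω[K⁄k₀] y) =
      TensorProduct.AlgebraTensorModule.cancelBaseChange K L M M Ω[K⁄k]
        ((pr k₀ k K L).baseChange M y) := by
  induction y using TensorProduct.induction_on with
  | zero => simp
  | tmul m t =>
    induction t using TensorProduct.induction_on with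
    | zero => simp
    | tmul l ω =>
      rw [TensorProduct.AlgebraTensorModule.cancelBaseChange_tmul, pr_tmul,
        LinearMap.baseChange_tmul, pr_tmul, TensorProduct.AlgebraTensorModule.cancelBaseChange_tmul]
    | add x y hx hy => simp only [TensorProduct.tmul_add, map_add, hx, hy]
  | add x y hx hy => simp only [map_add, hx, hy]

lemma rank_inf_ker_img :
    Module.rank M ↥(EGA41.imperfection k₀ K M ⊓ LinearMap.ker (pr k₀ k K M) ⊓
        LinearMap.ker (img k₀ K L M)) =
      Module.rank L ↥(EGA41.imperfection k₀ K L ⊓ LinearMap.ker (pr k₀ k K L)) := by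
  obtain ⟨f, hf⟩ : ∃ f, f = (KaehlerDifferential.mapBaseChange k₀ K L).prod (pr k₀ k K L) :=
    ⟨_, rfl⟩
  have hker : LinearMap.ker f =
      EGA41.imperfection k₀ K L ⊓ LinearMap.ker (pr k₀ k K L) := by
    rw [hf, LinearMap.ker_prod]; rfl
  obtain ⟨θ, hθ⟩ : ∃ θ, θ = TensorProduct.AlgebraTensorModule.cancelBaseChange K L M M Ω[K⁄k₀] :=
    ⟨_, rfl⟩
  have hmap : (LinearMap.ker (TensorProduct.AlgebraTensorModule.lTensor M M f)).map
      θ.toLinearMap = EGA41.imperfection k₀ K M ⊓ LinearMap.ker (pr k₀ k K M) ⊓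
        LinearMap.ker (img k₀ K L M) := by
    have hiff : ∀ y : M ⊗[L] (L ⊗[K] Ω[K⁄k₀]),
        TensorProduct.AlgebraTensorModule.lTensor M M f y = 0 ↔
          img k₀ K L M (θ y) = 0 ∧ pr k₀ k K M (θ y) = 0 := by
      intro y
      have h0 : TensorProduct.AlgebraTensorModule.lTensor M M f y = f.baseChange M y := rfl
      rw [h0, hf, baseChange_prod_eq_zero_iff, hθ, pr_cancel, img_apply,
        LinearEquiv.symm_apply_apply, LinearEquiv.map_eq_zero_iff]
    ext z
    constructor
    · rintro ⟨y, hy, rfl⟩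
      obtain ⟨h1, h2⟩ := (hiff y).1 hy
      refine ⟨⟨?_, h2⟩, h1⟩
      change KaehlerDifferential.mapBaseChange k₀ K M (θ y) = 0
      rw [← mapBaseChange_img (B := L), h1, map_zero]
    · rintro ⟨⟨-, h2⟩, h1⟩
      refine ⟨θ.symm z, (hiff _).2 ?_, θ.apply_symm_apply z⟩
      rw [θ.apply_symm_apply]
      exact ⟨h1, h2⟩
  rw [← hmap, ← hker]
  have e1 := (θ.submoduleMap
    (LinearMap.ker (TensorProduct.AlgebraTensorModule.lTensor M M f))).rank_eq
  have e2 := (LinearMap.tensorKerEquiv M M f).rank_eq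
  have hfree : Module.Free L ↥(LinearMap.ker f) :=
    Module.Free.of_basis (Module.Basis.ofVectorSpace L ↥(LinearMap.ker f))
  have e3 : Module.rank M (M ⊗[L] ↥(LinearMap.ker f)) =
      Cardinal.lift.{w} (Module.rank L ↥(LinearMap.ker f)) := Module.rank_baseChange
  rw [Cardinal.lift_id] at e3
  rw [← e1, ← e2, e3]

end Main

section Final

universe u u' w

theorem main_5837 {k₀ : Type u} {k : Type u'} {K L M : Type w}
    [Field k₀] [Field k] [Field K] [Field L] [Field M] [Algebra k₀ k]
    [Algebra k₀ K] [Algebra k K] [IsScalarTower k₀ k K] [Algebra k₀ L] [Algebra k L] [IsScalarTower k₀ k L]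
    [Algebra K L] [Algebra K M] [Algebra L M] [IsScalarTower K L M]
    [Algebra k₀ M] [Algebra k M] [IsScalarTower k₀ K L] [IsScalarTower k K L]
    [IsScalarTower k₀ K M] [IsScalarTower k K M] [IsScalarTower k₀ L M] [IsScalarTower k L M] :
    Module.rank M ↥(EGA41.imperfection k₀ K M ⊓
          LinearMap.ker ((KaehlerDifferential.map k₀ k K K).baseChange M)) =
      Module.rank M ↥(EGA41.imperfection k₀ L M ⊓
            LinearMap.ker ((KaehlerDifferential.map k₀ k L L).baseChange M)) +
        Module.rank L ↥(EGA41.imperfection k₀ K L ⊓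
            LinearMap.ker ((KaehlerDifferential.map k₀ k K K).baseChange L)) := by
  have t1 : IsScalarTower k₀ k M := IsScalarTower.of_algebraMap_eq (fun x => by
    rw [IsScalarTower.algebraMap_apply k₀ K M, IsScalarTower.algebraMap_apply k₀ k K,
      ← IsScalarTower.algebraMap_apply k K M])
  have hmaps : ∀ z ∈ EGA41.imperfection k₀ K M ⊓ LinearMap.ker (pr k₀ k K M),
      img k₀ K L M z ∈ EGA41.imperfection k₀ L M ⊓ LinearMap.ker (pr k₀ k L M) := by
    rintro z ⟨hz1, hz2⟩
    refine ⟨?_, ?_⟩
    · change KaehlerDifferential.mapBaseChange k₀ L M (img k₀ K L M z) = 0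
      rw [mapBaseChange_img]
      exact hz1
    · change pr k₀ k L M (img k₀ K L M z) = 0
      have hz2' : pr k₀ k K M z = 0 := hz2
      rw [pr_img_change, hz2', map_zero]
  have hsurj : ∀ w ∈ EGA41.imperfection k₀ L M ⊓ LinearMap.ker (pr k₀ k L M),
      ∃ z ∈ EGA41.imperfection k₀ K M ⊓ LinearMap.ker (pr k₀ k K M), img k₀ K L M z = w := by
    rintro w ⟨hw1, hw2⟩
    obtain ⟨y, rfl⟩ := exists_img_eq_of_pr_eq_zero (Λ := k₀) (A := k) (B := L) (C := M) w hw2
    refine ⟨img k₀ k K M y, ⟨?_, ?_⟩, img_img y⟩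
    · change KaehlerDifferential.mapBaseChange k₀ K M (img k₀ k K M y) = 0
      rw [← mapBaseChange_img (B := L), img_img]
      exact hw1
    · change pr k₀ k K M (img k₀ k K M y) = 0
      rw [pr_img]
  have h1 := rank_eq_add_of_surjOn (img k₀ K L M) _ _ hmaps hsurj
  rw [rank_inf_ker_img] at h1
  exact h1

end Final

end Groth.Agent.H3.Imperf
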